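import Groth.Agent.TorDimLib.FlatVanish
import Mathlib

/-!
Higher tor groups between perfect algebras over a perfect ring of characteristic `p` vanish.
-/

set_option autoImplicit false
universe u

open CategoryTheory CategoryTheory.Limits TensorProduct

namespace PerfTorLib

open TorDimLib (ExactAtSucc comm_apply d_d flat_X)

section Shift

variable {A : Type u} [CommRing A]
variable {K F Q : Type u} [AddCommGroup K] [Module A K] [AddCommGroup F] [Module A F]
    [AddCommGroup Q] [Module A Q] [Module.Flat A F]

/-- Dimension shift along a short exact sequence with flat middle term, upwards. -/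
theorem exactAtSucc_succ_of (ι : K →ₗ[A] F) (π : F →ₗ[A] Q) (hι : Function.Injective ι)
    (hex : Function.Exact ι π) (hπ : Function.Surjective π) {Z : ModuleCat.{u} A}
    (P : ProjectiveResolution Z) (p : ℕ) (h : ExactAtSucc K P p) : ExactAtSucc Q P (p + 1) := by
  intro z
  refine ⟨fun hz => ?_, ?_⟩
  · let D1 := (P.complex.d (p + 1) p).hom
    let D2 := (P.complex.d (p + 2) (p + 1)).hom
    let D3 := (P.complex.d (p + 3) (p + 2)).hom
    obtain ⟨w, rfl⟩ := LinearMap.rTensor_surjective (P.complex.X (p + 2)) hπ z
    obtain ⟨v, hv⟩ := (rTensor_exact (P.complex.X (p + 1)) hex hπ (D2.lTensor F w)).1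
      (by rw [← comm_apply]; exact hz)
    have := flat_X P p
    have hDv : D1.lTensor K v = 0 :=
      Module.Flat.rTensor_preserves_injective_linearMap (M := P.complex.X p) ι hι
        (by rw [← comm_apply, hv, map_zero]; exact d_d P F _ _ _ w)
    obtain ⟨v', hv'⟩ := (h v).1 hDv
    obtain ⟨t, ht⟩ := (Module.Flat.lTensor_exact F
      ((ShortComplex.ShortExact.moduleCat_exact_iff_function_exact _).1 (P.exact_succ (p + 1)))
      (w - ι.rTensor _ v')).1 (by
        show D2.lTensor F _ = 0
        rw [map_sub, comm_apply, show D2.lTensor K v' = v from hv', hv, sub_self])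
    refine ⟨π.rTensor _ t, ?_⟩
    show D3.lTensor Q _ = _
    rw [comm_apply, show D3.lTensor F t = w - ι.rTensor _ v' from ht, map_sub, ← LinearMap.comp_apply
      (π.rTensor _) (ι.rTensor _), ← LinearMap.rTensor_comp, hex.linearMap_comp_eq_zero]
    simp
  · rintro ⟨w, rfl⟩
    exact d_d P Q _ _ _ w

/-- Start of the dimension shift. -/
theorem exactAtSucc_zero_of (ι : K →ₗ[A] F) (π : F →ₗ[A] Q) (hex : Function.Exact ι π)
    (hπ : Function.Surjective π) {C : Type u} [AddCommGroup C] [Module A C]
    (P : ProjectiveResolution (ModuleCat.of A C)) (h : Function.Injective (ι.rTensor C)) :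
    ExactAtSucc Q P 0 := by
  intro z
  refine ⟨fun hz => ?_, ?_⟩
  · let D1 := (P.complex.d 1 0).hom
    let D2 := (P.complex.d 2 1).hom
    let ε : P.complex.X 0 →ₗ[A] C := (P.π.f 0).hom
    have hεD : ε ∘ₗ D1 = 0 := by
      have := congrArg ModuleCat.Hom.hom P.complex_d_comp_π_f_zero
      exact this
    have hexε : Function.Exact D1 ε :=
      (ShortComplex.ShortExact.moduleCat_exact_iff_function_exact _).1
        (ShortComplex.exact_of_g_is_cokernel (ShortComplex.mk _ _ P.complex_d_comp_π_f_zero)
          P.isColimitCokernelCofork)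
    have hεs : Function.Surjective ε := (ModuleCat.epi_iff_surjective (P.π.f 0)).1 inferInstance
    obtain ⟨w, rfl⟩ := LinearMap.rTensor_surjective (P.complex.X 1) hπ z
    obtain ⟨v, hv⟩ := (rTensor_exact (P.complex.X 0) hex hπ (D1.lTensor F w)).1
      (by rw [← comm_apply]; exact hz)
    have hεv : ε.lTensor K v = 0 := h (by
      rw [← comm_apply, hv, map_zero, ← LinearMap.comp_apply, ← LinearMap.lTensor_comp, hεD]
      simp)
    obtain ⟨v', hv'⟩ := (lTensor_exact K hexε hεs v).1 hεv
    obtain ⟨t, ht⟩ := (Module.Flat.lTensor_exact F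
      ((ShortComplex.ShortExact.moduleCat_exact_iff_function_exact _).1 (P.exact_succ 0))
      (w - ι.rTensor _ v')).1 (by
        show D1.lTensor F _ = 0
        rw [map_sub, comm_apply, hv', hv, sub_self])
    refine ⟨π.rTensor _ t, ?_⟩
    show D2.lTensor Q _ = _
    rw [comm_apply, show D2.lTensor F t = w - ι.rTensor _ v' from ht, map_sub, ← LinearMap.comp_apply
      (π.rTensor _) (ι.rTensor _), ← LinearMap.rTensor_comp, hex.linearMap_comp_eq_zero]
    simp
  · rintro ⟨w, rfl⟩
    exact d_d P Q _ _ _ w

/-- Tor vanishing passes to direct summands. -/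
theorem exactAtSucc_retract {U : Type u} [AddCommGroup U] [Module A U] (s : K →ₗ[A] U)
    (r : U →ₗ[A] K) (hrs : r ∘ₗ s = LinearMap.id) {Z : ModuleCat.{u} A}
    (P : ProjectiveResolution Z) (p : ℕ) (h : ExactAtSucc U P p) : ExactAtSucc K P p := by
  intro z
  refine ⟨fun hz => ?_, ?_⟩
  · obtain ⟨w, hw⟩ := (h (s.rTensor _ z)).1 (by rw [comm_apply, hz, map_zero])
    refine ⟨r.rTensor _ w, ?_⟩
    rw [comm_apply, hw, ← LinearMap.comp_apply, ← LinearMap.rTensor_comp, hrs, LinearMap.rTensor_id]
    rfl
  · rintro ⟨w, rfl⟩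
    exact d_d P K _ _ _ w

end Shift

section Frobenius

variable {p : ℕ} (hp : p.Prime)
include hp

theorem pow_add_of_zero {R : Type*} [CommRing R] (h0 : (p : R) = 0) (x y : R) :
    (x + y) ^ p = x ^ p + y ^ p := by
  obtain ⟨r, hr⟩ := exists_add_pow_prime_eq hp x y
  rw [hr, h0]
  ring

/-- The inverse of a bijective `p`-th power map, as an additive map. -/
noncomputable def root {R : Type*} [CommRing R] (h0 : (p : R) = 0)
    (h : Function.Bijective fun x : R => x ^ p) : R →+ R :=
  AddMonoidHom.mk' (fun x => (Equiv.ofBijective _ h).symm x) (fun x y => h.1 (by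
    show _ ^ p = (_ + _) ^ p
    rw [pow_add_of_zero hp h0]
    have e : ∀ z, ((Equiv.ofBijective _ h).symm z) ^ p = z :=
      fun z => (Equiv.ofBijective _ h).apply_symm_apply z
    rw [e, e, e]))

theorem root_pow {R : Type*} [CommRing R] (h0 : (p : R) = 0)
    (h : Function.Bijective fun x : R => x ^ p) (x : R) : root hp h0 h x ^ p = x :=
  (Equiv.ofBijective _ h).apply_symm_apply x

theorem root_pow' {R : Type*} [CommRing R] (h0 : (p : R) = 0)
    (h : Function.Bijective fun x : R => x ^ p) (x : R) : root hp h0 h (x ^ p) = x :=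
  h.1 (root_pow hp h0 h (x ^ p))

theorem root_mul {R : Type*} [CommRing R] (h0 : (p : R) = 0)
    (h : Function.Bijective fun x : R => x ^ p) (x y : R) :
    root hp h0 h (x * y) = root hp h0 h x * root hp h0 h y :=
  h.1 (by
    show _ ^ p = (_ * _) ^ p
    rw [mul_pow, root_pow, root_pow, root_pow])

theorem root_one {R : Type*} [CommRing R] (h0 : (p : R) = 0)
    (h : Function.Bijective fun x : R => x ^ p) : root hp h0 h 1 = 1 :=
  h.1 (by show _ ^ p = _ ^ p; rw [root_pow, one_pow])

variable {A : Type u} [CommRing A] (h0 : (p : A) = 0)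
include h0

theorem cast_eq_zero (R : Type*) [CommRing R] [Algebra A R] : (p : R) = 0 := by
  rw [← map_natCast (algebraMap A R), h0, map_zero]

variable (hA : Function.Bijective fun a : A => a ^ p)
include hA

theorem root_smul (B : Type u) [CommRing B] [Algebra A B]
    (hB : Function.Bijective fun b : B => b ^ p) (a : A) (b : B) :
    root hp (cast_eq_zero hp h0 B) hB (a • b) =
      root hp h0 hA a • root hp (cast_eq_zero hp h0 B) hB b :=
  hB.1 (by
    show _ ^ p = (_ • _) ^ p
    rw [smul_pow, root_pow, root_pow, root_pow])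

/-- The `p`-th power map of a tensor product of perfect algebras is injective. -/
theorem tensor_pow_injective (B C : Type u) [CommRing B] [Algebra A B] [CommRing C] [Algebra A C]
    (hB : Function.Bijective fun b : B => b ^ p) (hC : Function.Bijective fun c : C => c ^ p) :
    Function.Injective fun x : B ⊗[A] C => x ^ p := by
  let rA := root hp h0 hA
  let rB := root hp (cast_eq_zero hp h0 B) hB
  let rC := root hp (cast_eq_zero hp h0 C) hC
  let ψ : B ⊗[A] C →+ B ⊗[A] C := TensorProduct.liftAddHom
    (AddMonoidHom.mk' (fun b => AddMonoidHom.mk' (fun c => rB b ⊗ₜ[A] rC c)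
        (fun c c' => by rw [map_add, TensorProduct.tmul_add]))
      (fun b b' => by
        ext c
        simp only [AddMonoidHom.mk'_apply, map_add, TensorProduct.add_tmul, AddMonoidHom.add_apply]))
    (fun a b c => by
      simp only [AddMonoidHom.mk'_apply, rB, rC]
      rw [root_smul hp h0 hA B hB, root_smul hp h0 hA C hC, TensorProduct.smul_tmul])
  have hψ : ∀ x, ψ (x ^ p) = x := by
    intro x
    induction x using TensorProduct.induction_on with
    | zero => rw [zero_pow hp.ne_zero, map_zero]
    | tmul b c =>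
      rw [Algebra.TensorProduct.tmul_pow]
      show rB (b ^ p) ⊗ₜ[A] rC (c ^ p) = _
      simp only [rB, rC, root_pow']
    | add x y hx hy => rw [pow_add_of_zero hp (cast_eq_zero hp h0 _), map_add, hx, hy]
  exact fun x y h => by
    rw [← hψ x, ← hψ y]
    exact congrArg ψ h

/-- The monoid algebra of a perfect algebra is perfect. -/
theorem monoidAlgebra_pow_bijective (B : Type u) [CommRing B]
    (hB : Function.Bijective fun b : B => b ^ p) :
    Function.Bijective fun x : MonoidAlgebra A B => x ^ p := by
  classical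
  let rA := root hp h0 hA
  let rB : B → B := (Equiv.ofBijective _ hB).symm
  have hrB : ∀ b, rB b ^ p = b := fun b => (Equiv.ofBijective _ hB).apply_symm_apply b
  have hrB' : ∀ b, rB (b ^ p) = b := fun b => hB.1 (hrB (b ^ p))
  let ψ : MonoidAlgebra A B →+ MonoidAlgebra A B :=
    MonoidAlgebra.liftNC
      ((MonoidAlgebra.singleOneRingHom : A →+* MonoidAlgebra A B).toAddMonoidHom.comp rA)
      (fun b => MonoidAlgebra.of A B (rB b))
  have hψs : ∀ m a, ψ (MonoidAlgebra.single m a) = MonoidAlgebra.single (rB m) (rA a) := by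
    intro m a
    simp only [ψ, MonoidAlgebra.liftNC_single]
    simp [MonoidAlgebra.single_mul_single]
  refine ⟨Function.LeftInverse.injective (g := ψ) fun x => ?_, fun x => ⟨ψ x, ?_⟩⟩
  · induction x using MonoidAlgebra.induction_on with
    | of m => simp [MonoidAlgebra.single_pow, hψs, hrB', rA, root_one]
    | add x y hx hy =>
      show ψ ((x + y) ^ p) = x + y
      rw [pow_add_of_zero hp (cast_eq_zero hp h0 _), map_add, hx, hy]
    | smul a x hx =>
      show ψ ((a • x) ^ p) = a • x
      have key : ∀ (a : A) z, ψ (a • z) = rA a • ψ z := by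
        intro a z
        induction z using MonoidAlgebra.induction_linear with
        | zero => simp
        | add z z' hz hz' => rw [smul_add, map_add, map_add, smul_add, hz, hz']
        | single m b => simp [MonoidAlgebra.smul_single, hψs, rA, root_mul]
      rw [smul_pow, key, hx]
      simp only [rA, root_pow']
  · induction x using MonoidAlgebra.induction_linear with
    | zero => simp [zero_pow hp.ne_zero]
    | add x y hx hy =>
      show ψ (x + y) ^ p = x + y
      rw [map_add, pow_add_of_zero hp (cast_eq_zero hp h0 _), show ψ x ^ p = x from hx,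
        show ψ y ^ p = y from hy]
    | single m a =>
      show ψ (MonoidAlgebra.single m a) ^ p = MonoidAlgebra.single m a
      rw [hψs, MonoidAlgebra.single_pow, hrB, root_pow]

/-- Higher tor between perfect algebras vanishes, in the resolution form. -/
theorem exactAtSucc_of_perfect (C : Type u) [CommRing C] [Algebra A C]
    (hC : Function.Bijective fun c : C => c ^ p) (P : ProjectiveResolution (ModuleCat.of A C))
    (n : ℕ) : ∀ (B : Type u) [CommRing B] [Algebra A B],
      (Function.Bijective fun b : B => b ^ p) → ExactAtSucc B P n := by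
  induction n with
  | zero => ?_
  | succ n ih => ?_
  all_goals
    intro B _ _ hB
    have hQ := monoidAlgebra_pow_bijective hp h0 hA B hB
    let π : MonoidAlgebra A B →ₐ[A] B := MonoidAlgebra.lift A B B (MonoidHom.id B)
    have hπ : Function.Surjective π := fun b => ⟨MonoidAlgebra.of A B b, by simp [π]⟩
    let K := LinearMap.ker π.toLinearMap
    let U : Subalgebra A (A × MonoidAlgebra A B) :=
      AlgHom.equalizer ((Algebra.ofId A B).comp (AlgHom.fst A A (MonoidAlgebra A B)))
        (π.comp (AlgHom.snd A A (MonoidAlgebra A B)))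
    have hU : ∀ z : A × MonoidAlgebra A B, z ∈ U ↔ algebraMap A B z.1 = π z.2 := fun z => Iff.rfl
    have hUperf : Function.Bijective fun z : U => z ^ p := by
      refine ⟨fun z w h => Subtype.ext (Prod.ext (hA.1 (congrArg (fun z : U => z.1.1) h))
        (hQ.1 (congrArg (fun z : U => z.1.2) h))), fun z => ?_⟩
      obtain ⟨a, ha⟩ := hA.2 z.1.1
      obtain ⟨q, hq⟩ := hQ.2 z.1.2
      refine ⟨⟨(a, q), (hU _).2 (hB.1 ?_)⟩, Subtype.ext (Prod.ext ha hq)⟩
      show (algebraMap A B a) ^ p = π q ^ p
      rw [← map_pow, ← map_pow]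
      simp only at ha hq
      rw [ha, hq]
      exact (hU _).1 z.2
    let s : K →ₗ[A] U :=
      { toFun := fun k => ⟨(0, k.1), (hU _).2 (by
          rw [map_zero]; exact (LinearMap.mem_ker.1 k.2).symm)⟩
        map_add' := fun k l => Subtype.ext (Prod.ext (add_zero (0 : A)).symm rfl)
        map_smul' := fun a k => Subtype.ext (Prod.ext (smul_zero a).symm rfl) }
    let r : U →ₗ[A] K :=
      { toFun := fun z => ⟨z.1.2 - algebraMap A _ z.1.1, LinearMap.mem_ker.2 (by
          show π _ = 0
          rw [map_sub, AlgHom.commutes, sub_eq_zero]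
          exact ((hU _).1 z.2).symm)⟩
        map_add' := fun z w => Subtype.ext (by
          show _ - algebraMap A _ (z.1.1 + w.1.1) = _
          rw [map_add]; exact add_sub_add_comm _ _ _ _)
        map_smul' := fun a z => Subtype.ext (by
          show a • z.1.2 - algebraMap A _ (a * z.1.1) = a • (z.1.2 - algebraMap A _ z.1.1)
          rw [map_mul, smul_sub, Algebra.smul_def a (algebraMap A _ z.1.1)]) }
    have hrs : r ∘ₗ s = LinearMap.id := LinearMap.ext fun k => Subtype.ext (by
      show k.1 - algebraMap A _ 0 = k.1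
      rw [map_zero, sub_zero])
    have hflat : Module.Flat A (MonoidAlgebra A B) :=
      have := Module.Free.of_basis (MonoidAlgebra.basis B A)
      inferInstance
  · refine exactAtSucc_zero_of K.subtype π.toLinearMap (LinearMap.exact_subtype_ker_map _) hπ P ?_
    refine (injective_iff_map_eq_zero _).2 fun x hx => ?_
    have hT : ∀ y : K ⊗[A] C, ∃ Φ : MonoidAlgebra A B ⊗[A] C →ₗ[A] U ⊗[A] C,
        ∀ x, s.rTensor C x * s.rTensor C y = Φ (K.subtype.rTensor C x) := by
      intro y
      induction y using TensorProduct.induction_on with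
      | zero => exact ⟨0, fun x => by simp⟩
      | add y₁ y₂ h₁ h₂ =>
        obtain ⟨Φ₁, h₁⟩ := h₁
        obtain ⟨Φ₂, h₂⟩ := h₂
        exact ⟨Φ₁ + Φ₂, fun x => by rw [map_add, mul_add, h₁, h₂]; rfl⟩
      | tmul i c =>
        let g : MonoidAlgebra A B →ₗ[A] K := LinearMap.codRestrict K
          (LinearMap.mulRight A (i : MonoidAlgebra A B)) (fun q => LinearMap.mem_ker.2 (by
            show π (q * (i : MonoidAlgebra A B)) = 0
            rw [map_mul, show π (i : MonoidAlgebra A B) = 0 from LinearMap.mem_ker.1 i.2, mul_zero]))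
        refine ⟨TensorProduct.map (s ∘ₗ g) (LinearMap.mulRight A c), fun x => ?_⟩
        induction x using TensorProduct.induction_on with
        | zero => simp
        | add x₁ x₂ h₁ h₂ => rw [map_add, add_mul, h₁, h₂, map_add, map_add]
        | tmul i' c' =>
          rw [LinearMap.rTensor_tmul, LinearMap.rTensor_tmul, LinearMap.rTensor_tmul,
            TensorProduct.map_tmul, Algebra.TensorProduct.tmul_mul_tmul]
          refine congrArg₂ (fun a b => a ⊗ₜ[A] b) (Subtype.ext (Prod.ext ?_ rfl)) rfl
          exact zero_mul _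
    obtain ⟨Φ, hΦ⟩ := hT x
    have h2 : s.rTensor C x * s.rTensor C x = 0 := by rw [hΦ, hx, map_zero]
    have h3 : s.rTensor C x = 0 := tensor_pow_injective hp h0 hA U C hUperf hC (by
      show _ ^ p = 0 ^ p
      rw [zero_pow hp.ne_zero, show p = 2 + (p - 2) by have := hp.two_le; omega, pow_add, pow_two,
        h2, zero_mul])
    have h4 := congrArg (r.rTensor C) h3
    rwa [← LinearMap.comp_apply, ← LinearMap.rTensor_comp, hrs, LinearMap.rTensor_id, map_zero] at h4
  · exact exactAtSucc_succ_of K.subtype π.toLinearMap K.injective_subtype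
      (LinearMap.exact_subtype_ker_map _) hπ P n (exactAtSucc_retract s r hrs P n (ih U hUperf))

end Frobenius

end PerfTorLib
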