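import Groth.Agent.PerfTorLib.Ring
import Groth.Agent.TorDimLib.Basic
import Groth.Agent.PDLib.PD

/-! Tor independence of perfect rings. -/

set_option autoImplicit false
set_option linter.style.haveILetI false
universe u

open CategoryTheory TensorProduct TorDimLib

namespace Groth.Agent.PerfTorLib

section Shift

variable {R : Type u} [CommRing R] {K F S : Type u} [AddCommGroup K] [Module R K] [AddCommGroup F] [Module R F]
  [AddCommGroup S] [Module R S] (ι : K →ₗ[R] F) (π : F →ₗ[R] S) (hι : Function.Injective ι)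
  (hex : Function.Exact ι π) (hπ : Function.Surjective π) {Z : ModuleCat.{u} R} (W : ProjectiveResolution Z)

include hι hex hπ

theorem exactAtSucc_right (q : ℕ) (hF : ExactAtSucc F W (q + 1)) (hK : ExactAtSucc K W q) :
    ExactAtSucc S W (q + 1) := by
  intro z
  refine ⟨fun hz => ?_, ?_⟩
  · have := flat_X W q
    have hinj : Function.Injective (ι.rTensor (W.complex.X q)) :=
      Module.Flat.rTensor_preserves_injective_linearMap ι hι
    obtain ⟨w, rfl⟩ := LinearMap.rTensor_surjective (W.complex.X (q + 2)) hπ z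
    obtain ⟨v, hv⟩ := (rTensor_exact (W.complex.X (q + 1)) hex hπ ((W.complex.d (q + 2) (q + 1)).hom.lTensor F w)).1
      (by rw [← comm_apply]; exact hz)
    have hdv : (W.complex.d (q + 1) q).hom.lTensor K v = 0 := hinj (by
      rw [map_zero, ← comm_apply, hv]
      exact d_d W F _ _ _ w)
    obtain ⟨u', hu'⟩ := (hK v).1 hdv
    obtain ⟨w', hw'⟩ := (hF (w - ι.rTensor _ u')).1 (by
      rw [map_sub, comm_apply, hu', hv, sub_self])
    refine ⟨π.rTensor _ w', ?_⟩
    rw [comm_apply, hw', map_sub, ← LinearMap.comp_apply _ (ι.rTensor _), ← LinearMap.rTensor_comp,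
      hex.linearMap_comp_eq_zero, LinearMap.rTensor_zero, LinearMap.zero_apply, sub_zero]
  · rintro ⟨w, rfl⟩
    exact d_d W S _ _ _ w

theorem exactAtSucc_right_zero (hF : ExactAtSucc F W 0) (hK : Function.Injective (ι.rTensor Z)) :
    ExactAtSucc S W 0 := by
  intro z
  refine ⟨fun hz => ?_, ?_⟩
  · obtain ⟨w, rfl⟩ := LinearMap.rTensor_surjective (W.complex.X 1) hπ z
    obtain ⟨v, hv⟩ := (rTensor_exact (W.complex.X 0) hex hπ ((W.complex.d 1 0).hom.lTensor F w)).1
      (by rw [← comm_apply]; exact hz)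
    let ε : W.complex.X 0 →ₗ[R] Z := (W.π.f 0).hom
    have hε : Function.Surjective ε := (ModuleCat.epi_iff_surjective (W.π.f 0)).1 inferInstance
    have hεd : Function.Exact (W.complex.d 1 0).hom ε :=
      (ShortComplex.ShortExact.moduleCat_exact_iff_function_exact _).1
        (ShortComplex.exact_of_g_is_cokernel (S := ShortComplex.mk _ _ W.complex_d_comp_π_f_zero)
          W.isColimitCokernelCofork)
    have hv0 : ε.lTensor K v = 0 := hK (by
      rw [map_zero, ← comm_apply, hv, ← LinearMap.comp_apply, ← LinearMap.lTensor_comp,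
        hεd.linearMap_comp_eq_zero, LinearMap.lTensor_zero, LinearMap.zero_apply])
    obtain ⟨u', hu'⟩ := (lTensor_exact K hεd hε v).1 hv0
    obtain ⟨w', hw'⟩ := (hF (w - ι.rTensor _ u')).1 (by
      rw [map_sub, comm_apply, hu', hv, sub_self])
    refine ⟨π.rTensor _ w', ?_⟩
    rw [comm_apply, hw', map_sub, ← LinearMap.comp_apply _ (ι.rTensor _), ← LinearMap.rTensor_comp,
      hex.linearMap_comp_eq_zero, LinearMap.rTensor_zero, LinearMap.zero_apply, sub_zero]
  · rintro ⟨w, rfl⟩
    exact d_d W S _ _ _ w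

end Shift

theorem exactAtSucc_prod {R : Type u} [CommRing R] {F G : Type u} [AddCommGroup F] [Module R F]
    [AddCommGroup G] [Module R G] {Z : ModuleCat.{u} R} (W : ProjectiveResolution Z) (q : ℕ)
    (hF : ExactAtSucc F W q) (hG : ExactAtSucc G W q) : ExactAtSucc (F × G) W q := by
  intro z
  refine ⟨fun hz => ?_, ?_⟩
  · obtain ⟨a, ha⟩ := (hF ((LinearMap.fst R F G).rTensor _ z)).1 (by rw [comm_apply, hz, map_zero])
    obtain ⟨b, hb⟩ := (hG ((LinearMap.snd R F G).rTensor _ z)).1 (by rw [comm_apply, hz, map_zero])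
    refine ⟨(LinearMap.inl R F G).rTensor _ a + (LinearMap.inr R F G).rTensor _ b, ?_⟩
    rw [map_add, comm_apply, comm_apply, ha, hb]
    simp only [← LinearMap.comp_apply, ← LinearMap.rTensor_comp, ← LinearMap.add_apply, ← LinearMap.rTensor_add]
    rw [show LinearMap.inl R F G ∘ₗ LinearMap.fst R F G + LinearMap.inr R F G ∘ₗ LinearMap.snd R F G = LinearMap.id
      from LinearMap.ext fun x => by simp, LinearMap.rTensor_id]
    rfl
  · rintro ⟨w, rfl⟩
    exact d_d W _ _ _ _ w

variable {p : ℕ} [Fact p.Prime] {R P B : Type u} [CommRing R] [CommRing P] [CommRing B] [Algebra R P] [Algebra R B]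

variable (R) in
/-- The inclusion of an ideal, linear over the base. -/
abbrev inc (I : Ideal P) : I →ₗ[R] P := I.subtype.restrictScalars R

/-- `I` is tor independent of `B` in `P`. -/
def Good (W : ProjectiveResolution (ModuleCat.of R B)) (I : Ideal P) : Prop :=
  (∀ q, ExactAtSucc I W q) ∧ Function.Injective ((inc R I).rTensor B)

theorem Perf.radical_sup (hP : Perf p P) (I J : Ideal P) : I.radical ⊔ J.radical = (I ⊔ J).radical := by
  refine le_antisymm (sup_le (Ideal.radical_mono le_sup_left) (Ideal.radical_mono le_sup_right)) fun x ⟨k, hk⟩ => ?_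
  have hk' : x ^ p ^ k ∈ I ⊔ J := Ideal.pow_mem_of_pow_mem _ hk (Nat.lt_pow_self (Fact.out : p.Prime).one_lt).le
  obtain ⟨a, ha, b, hb, hab⟩ := Submodule.mem_sup.1 hk'
  have : x = hP.rootN k a + hP.rootN k b := hP.iter_inj k (by
    show x ^ p ^ k = (hP.rootN k a + hP.rootN k b) ^ p ^ k
    rw [hP.add_pow_iter, hP.rootN_pow, hP.rootN_pow, hab])
  rw [this]
  exact Submodule.add_mem_sup ⟨p ^ k, by rwa [hP.rootN_pow]⟩ ⟨p ^ k, by rwa [hP.rootN_pow]⟩

theorem good_mono_sub (W : ProjectiveResolution (ModuleCat.of R B)) {I J : Ideal P} (hIJ : I ≤ J)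
    (hI : Good W I) : Function.Injective (((Submodule.inclusion hIJ).restrictScalars R).rTensor B) := by
  have h := hI.2
  rw [show inc R I = inc R J ∘ₗ (Submodule.inclusion hIJ).restrictScalars R from rfl, LinearMap.rTensor_comp,
    LinearMap.coe_comp] at h
  exact h.of_comp

/-- The elements of the extension of an ideal to the tensor product. -/
theorem range_inc (I : Ideal P) (z : I ⊗[R] B) :
    (inc R I).rTensor B z ∈ I.map (algebraMap P (P ⊗[R] B)) := by
  induction z using TensorProduct.induction_on with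
  | zero => simp
  | add a b ha hb => rw [map_add]; exact Ideal.add_mem _ ha hb
  | tmul a b =>
    have : (inc R I).rTensor B (a ⊗ₜ b) = algebraMap P (P ⊗[R] B) a * (1 ⊗ₜ[R] b) := by
      simp [Algebra.TensorProduct.algebraMap_apply]
    rw [this]
    exact Ideal.mul_mem_right _ _ (Ideal.mem_map_of_mem _ a.2)

theorem exists_inc_eq (I : Ideal P) {c : P ⊗[R] B} (hc : c ∈ I.map (algebraMap P (P ⊗[R] B))) :
    ∃ z : I ⊗[R] B, (inc R I).rTensor B z = c := by
  rw [Ideal.map, Ideal.span] at hc
  induction hc using Submodule.span_induction with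
  | mem y hy =>
    obtain ⟨a, ha, rfl⟩ := hy
    exact ⟨⟨a, ha⟩ ⊗ₜ 1, by simp [Algebra.TensorProduct.algebraMap_apply]⟩
  | zero => exact ⟨0, map_zero _⟩
  | add a b _ _ ha hb =>
    obtain ⟨z₁, rfl⟩ := ha
    obtain ⟨z₂, rfl⟩ := hb
    exact ⟨z₁ + z₂, map_add _ _ _⟩
  | smul r x _ hx =>
    obtain ⟨z, rfl⟩ := hx
    induction r using TensorProduct.induction_on with
    | zero => exact ⟨0, by simp⟩
    | add a b ha hb =>
      obtain ⟨z₁, h₁⟩ := ha
      obtain ⟨z₂, h₂⟩ := hb
      exact ⟨z₁ + z₂, by rw [map_add, h₁, h₂, add_smul]⟩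
    | tmul a b =>
      let m : I ⊗[R] B →ₗ[R] I ⊗[R] B :=
        TensorProduct.map ((LinearMap.lsmul P I a).restrictScalars R) (LinearMap.mulLeft R b)
      refine ⟨m z, ?_⟩
      have hm : ∀ w, (inc R I).rTensor B (m w) = a ⊗ₜ[R] b * (inc R I).rTensor B w := fun w => by
        induction w using TensorProduct.induction_on with
        | zero => simp
        | add x y hx hy => simp [map_add, mul_add, hx, hy]
        | tmul x y => simp [m]
      exact hm z

variable [Module.Flat R P] (hR : Perf p R) (hP : Perf p P) (hB : Perf p B)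
  (W : ProjectiveResolution (ModuleCat.of R B))

include hP in
/-- An element and its roots generate a flat radical ideal. -/
theorem flat_radical_span_singleton (f : P) :
    (∀ x ∈ (Ideal.span {f}).radical, ∃ (n : ℕ) (a : P), x = a * hP.rootN n f) ∧
      Module.Flat P (Ideal.span {f}).radical := by
  classical
  have hpow : ∀ x ∈ (Ideal.span {f}).radical, ∃ (n : ℕ) (a : P), x = a * hP.rootN n f := by
    rintro x ⟨k, hk⟩
    obtain ⟨c, hc⟩ := Ideal.mem_span_singleton'.1
      (Ideal.pow_mem_of_pow_mem _ hk (Nat.lt_pow_self (Fact.out : p.Prime).one_lt).le : x ^ p ^ k ∈ _)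
    exact ⟨k, hP.rootN k c, hP.iter_inj k (by
      show x ^ p ^ k = (_ * _) ^ p ^ k
      rw [mul_pow, hP.rootN_pow, hP.rootN_pow, hc])⟩
  refine ⟨hpow, Module.Flat.of_forall_isTrivialRelation fun {l c x} h => ?_⟩
  choose n a ha using fun i => hpow _ (x i).2
  let N : ℕ := ∑ i, n i
  have hup : ∀ i, ∃ b, (x i : P) = b * hP.rootN N f := fun i => by
    have hle : n i ≤ N := Finset.single_le_sum (fun _ _ => Nat.zero_le _) (Finset.mem_univ i)
    have key : ∀ (m k : ℕ), ∃ e, hP.rootN m f = e * hP.rootN (m + k) f := by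
      intro m k
      induction k with
      | zero => exact ⟨1, by simp⟩
      | succ k ih =>
        obtain ⟨e, he⟩ := ih
        refine ⟨e * hP.rootN (m + k + 1) f ^ (p - 1), ?_⟩
        rw [he, ← hP.rootN_succ_pow (m + k), ← pow_sub_one_mul (Fact.out : p.Prime).ne_zero,
          ← mul_assoc, ← Nat.add_assoc]
    obtain ⟨e, he⟩ := key (n i) (N - n i)
    rw [Nat.add_sub_cancel' hle] at he
    exact ⟨a i * e, by rw [ha i, he, mul_assoc]⟩
  choose b hb using hup
  have hg' : hP.rootN (N + 1) f ∈ (Ideal.span {f}).radical :=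
    ⟨p ^ (N + 1), by rw [hP.rootN_pow]; exact Ideal.mem_span_singleton_self f⟩
  refine ⟨1, fun i _ => b i * hP.rootN (N + 1) f ^ (p - 1), fun _ => ⟨_, hg'⟩, fun i => ?_, fun _ => ?_⟩
  · apply Subtype.ext
    simp only [Finset.univ_unique, Finset.sum_singleton, SetLike.val_smul, smul_eq_mul]
    rw [hb i, mul_assoc, pow_sub_one_mul (Fact.out : p.Prime).ne_zero, hP.rootN_succ_pow]
  · have h' : (∑ i, c i * b i) * hP.rootN N f = 0 := by
      rw [Finset.sum_mul]
      have := congrArg Subtype.val h
      rw [Submodule.coe_sum, ZeroMemClass.coe_zero] at this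
      rw [← this]
      exact Finset.sum_congr rfl fun i _ => by rw [SetLike.val_smul, smul_eq_mul, hb i, mul_assoc]
    haveI := hP.isReduced
    have h1 : (∑ i, c i * b i) * hP.rootN (N + 1) f = 0 := IsReduced.eq_zero _ ⟨p, by
      rw [mul_pow, hP.rootN_succ_pow, ← pow_sub_one_mul (Fact.out : p.Prime).ne_zero, mul_assoc, h',
        mul_zero]⟩
    have hp1 : p - 1 ≠ 0 := Nat.sub_ne_zero_of_lt (Fact.out : p.Prime).one_lt
    simp only [← pow_sub_one_mul hp1 (hP.rootN (N + 1) f)]
    calc ∑ i, c i * (b i * (hP.rootN (N + 1) f ^ (p - 1 - 1) * hP.rootN (N + 1) f))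
        = ((∑ i, c i * b i) * hP.rootN (N + 1) f) * hP.rootN (N + 1) f ^ (p - 1 - 1) := by
          simp only [Finset.sum_mul]; exact Finset.sum_congr rfl fun i _ => by ring
      _ = 0 := by rw [h1, zero_mul]

include hR hP hB in
set_option synthInstance.maxHeartbeats 100000 in
theorem good_singleton (f : P) : Good W (Ideal.span {f}).radical := by
  obtain ⟨hpow, hflat⟩ := flat_radical_span_singleton hP f
  haveI := hflat
  haveI : Module.Flat R (Ideal.span {f}).radical := Module.Flat.trans R P _
  refine ⟨fun q => PDLib.exactAtSucc_of_flat _ W q, (injective_iff_map_eq_zero _).2 fun z hz => ?_⟩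
  let J := (Ideal.span {f}).radical
  have hC := perf_tensor hP hB hR
  have hmem : ∀ n, hP.rootN n f ∈ J := fun n => ⟨p ^ n, by rw [hP.rootN_pow]; exact Ideal.mem_span_singleton_self f⟩
  let φ : ℕ → (P ⊗[R] B →ₗ[R] J ⊗[R] B) := fun n =>
    (((LinearMap.id : P →ₗ[P] P).smulRight (⟨_, hmem n⟩ : J)).restrictScalars R).rTensor B
  let σ : ℕ → P ⊗[R] B := fun n => hP.rootN n f ⊗ₜ[R] (1 : B)
  have hφ : ∀ n y, (inc R J).rTensor B (φ n y) = y * σ n := fun n y => by
    induction y using TensorProduct.induction_on with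
    | zero => simp
    | add a b ha hb => simp [ha, hb, add_mul]
    | tmul a b => simp [φ, σ]
  have hstep : ∀ n y, φ n y = φ (n + 1) (y * σ (n + 1) ^ (p - 1)) := fun n y => by
    induction y using TensorProduct.induction_on with
    | zero => simp
    | add a b ha hb => simp [ha, hb, add_mul]
    | tmul a b =>
      simp only [φ, σ, Algebra.TensorProduct.tmul_pow, Algebra.TensorProduct.tmul_mul_tmul, one_pow, mul_one,
        LinearMap.rTensor_tmul]
      congr 1
      apply Subtype.ext
      simp only [LinearMap.coe_restrictScalars, LinearMap.smulRight_apply, LinearMap.id_coe, id_eq,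
        SetLike.val_smul, smul_eq_mul]
      rw [mul_assoc, pow_sub_one_mul (Fact.out : p.Prime).ne_zero, hP.rootN_succ_pow]
  have hup : ∀ n k y, ∃ y', φ n y = φ (n + k) y' := by
    intro n k
    induction k with
    | zero => exact fun y => ⟨y, rfl⟩
    | succ k ih =>
      intro y
      obtain ⟨y', hy'⟩ := ih y
      exact ⟨y' * σ (n + k + 1) ^ (p - 1), hy'.trans (hstep _ _)⟩
  obtain ⟨n, y, rfl⟩ : ∃ n y, z = φ n y := by
    clear hz
    induction z using TensorProduct.induction_on with
    | zero => exact ⟨0, 0, by simp⟩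
    | add a b ha hb =>
      obtain ⟨n₁, y₁, rfl⟩ := ha
      obtain ⟨n₂, y₂, rfl⟩ := hb
      obtain ⟨y₁', h₁⟩ := hup n₁ n₂ y₁
      obtain ⟨y₂', h₂⟩ := hup n₂ n₁ y₂
      exact ⟨n₁ + n₂, y₁' + y₂', by rw [h₁, h₂, Nat.add_comm n₂ n₁, map_add]⟩
    | tmul a b =>
      obtain ⟨n, c, hc⟩ := hpow _ a.2
      exact ⟨n, c ⊗ₜ b, by
        simp only [φ, LinearMap.rTensor_tmul]
        congr 1
        exact Subtype.ext (by simpa using hc)⟩
  rw [hφ] at hz
  haveI := hC.isReduced
  have hσp : σ (n + 1) ^ p = σ n := by simp [σ, Algebra.TensorProduct.tmul_pow, hP.rootN_succ_pow]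
  have h1 : y * σ (n + 1) = 0 := IsReduced.eq_zero _ ⟨p, by
    rw [mul_pow, hσp, ← pow_sub_one_mul (Fact.out : p.Prime).ne_zero, mul_assoc, hz, mul_zero]⟩
  rw [hstep, ← pow_sub_one_mul (Nat.sub_ne_zero_of_lt (Fact.out : p.Prime).one_lt),
    mul_left_comm, h1, mul_zero, map_zero]

include hR hP hB in
theorem good_sup {I J : Ideal P} (hI : Good W I.radical) (hJ : Good W J.radical)
    (hIJ : Good W (I * J).radical) : Good W (I ⊔ J).radical := by
  have hmeet : (I * J).radical = I.radical ⊓ J.radical := Ideal.radical_mul I J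
  rw [← hP.radical_sup I J]
  let A₁ := I.radical
  let A₂ := J.radical
  let K := (I * J).radical
  have hK₁ : K ≤ A₁ := hmeet.trans_le inf_le_left
  have hK₂ : K ≤ A₂ := hmeet.trans_le inf_le_right
  let S : Ideal P := A₁ ⊔ A₂
  let ι : K →ₗ[R] A₁ × A₂ :=
    LinearMap.prod ((Submodule.inclusion hK₁).restrictScalars R) (-(Submodule.inclusion hK₂).restrictScalars R)
  let π : (A₁ × A₂) →ₗ[R] S :=
    LinearMap.coprod ((Submodule.inclusion (le_sup_left : A₁ ≤ S)).restrictScalars R)
      ((Submodule.inclusion (le_sup_right : A₂ ≤ S)).restrictScalars R)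
  have hι : Function.Injective ι := fun a b h => Submodule.inclusion_injective hK₁ (congrArg Prod.fst h)
  have hπ : Function.Surjective π := fun x => by
    obtain ⟨a, ha, b, hb, hab⟩ := Submodule.mem_sup.1 x.2
    exact ⟨(⟨a, ha⟩, ⟨b, hb⟩), Subtype.ext hab⟩
  have hex : Function.Exact ι π := fun x => by
    refine ⟨fun hx => ?_, ?_⟩
    · have h : (x.1 : P) + x.2 = 0 := congrArg Subtype.val hx
      have hmem : (x.1 : P) ∈ K := by
        show (x.1 : P) ∈ (I * J).radical
        rw [hmeet]
        exact ⟨x.1.2, by rw [eq_neg_of_add_eq_zero_left h]; exact A₂.neg_mem x.2.2⟩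
      exact ⟨⟨_, hmem⟩, Prod.ext (Subtype.ext rfl) (Subtype.ext (by
        show -(x.1 : P) = x.2
        rw [eq_neg_of_add_eq_zero_left h, neg_neg]))⟩
    · rintro ⟨y, rfl⟩
      exact Subtype.ext (add_neg_cancel (y : P))
  have hιB : Function.Injective (ι.rTensor B) := by
    have h := good_mono_sub W hK₁ hIJ
    have hfst : LinearMap.fst R A₁ A₂ ∘ₗ ι = (Submodule.inclusion hK₁).restrictScalars R := rfl
    rw [← hfst, LinearMap.rTensor_comp, LinearMap.coe_comp] at h
    exact h.of_comp
  refine ⟨fun q => ?_, ?_⟩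
  · cases q with
    | zero => exact exactAtSucc_right_zero ι π hι hex hπ W (exactAtSucc_prod W 0 (hI.1 0) (hJ.1 0)) hιB
    | succ q => exact exactAtSucc_right ι π hι hex hπ W q (exactAtSucc_prod W _ (hI.1 _) (hJ.1 _)) (hIJ.1 q)
  · refine (injective_iff_map_eq_zero _).2 fun z hz => ?_
    obtain ⟨w, rfl⟩ := LinearMap.rTensor_surjective B hπ z
    let x₁ := (LinearMap.fst R A₁ A₂).rTensor B w
    let x₂ := (LinearMap.snd R A₁ A₂).rTensor B w
    have hsum : (inc R A₁).rTensor B x₁ + (inc R A₂).rTensor B x₂ = 0 := by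
      rw [← hz]
      simp only [x₁, x₂, ← LinearMap.comp_apply, ← LinearMap.add_apply, ← LinearMap.rTensor_comp,
        ← LinearMap.rTensor_add]
      congr 2
    have hC := perf_tensor hP hB hR
    let g := algebraMap P (P ⊗[R] B)
    have hcK : (inc R A₁).rTensor B x₁ ∈ K.map g := by
      have hc : ((inc R A₁).rTensor B x₁) ^ (p ^ 1) ∈ (A₁ * A₂).map g := by
        rw [Ideal.map_mul, pow_one]
        refine Ideal.pow_mem_of_pow_mem _ (m := 2) ?_ (Fact.out : p.Prime).two_le
        rw [pow_two]
        refine Ideal.mul_mem_mul (range_inc A₁ x₁) ?_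
        rw [eq_neg_of_add_eq_zero_left hsum]
        exact neg_mem (range_inc A₂ x₂)
      have hle : (A₁ * A₂).map g ≤ K.map g := Ideal.map_mono (Ideal.mul_le_inf.trans hmeet.ge)
      have key : ∀ c ∈ K.map g, hC.root c ∈ K.map g := by
        intro c hc
        rw [Ideal.map, Ideal.span] at hc
        induction hc using Submodule.span_induction with
        | mem y hy =>
          obtain ⟨a, ha, rfl⟩ := hy
          have : hC.root (g a) = g (hP.root a) := hC.pow_inj (by rw [hC.root_pow, ← map_pow, hP.root_pow])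
          rw [this]
          refine Ideal.mem_map_of_mem _ (Ideal.radical_isRadical _ ⟨p, ?_⟩)
          rwa [hP.root_pow]
        | zero => rw [show hC.root 0 = 0 from hC.pow_inj (by
            rw [hC.root_pow, zero_pow (Fact.out : p.Prime).ne_zero])]; exact Ideal.zero_mem _
        | add a b _ _ ha hb => rw [hC.root_add]; exact Ideal.add_mem _ ha hb
        | smul r x _ hx => rw [smul_eq_mul, hC.root_mul]; exact Ideal.mul_mem_left _ _ hx
      have hroot : hC.root (((inc R A₁).rTensor B x₁) ^ p) = (inc R A₁).rTensor B x₁ := hC.pow_inj (hC.root_pow _)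
      rw [← hroot]
      exact key _ (hle (by rwa [pow_one] at hc))
    obtain ⟨k, hk⟩ := exists_inc_eq K hcK
    have h₁ : x₁ = ((Submodule.inclusion hK₁).restrictScalars R).rTensor B k := hI.2 (by
      rw [← hk, ← LinearMap.comp_apply ((inc R A₁).rTensor B), ← LinearMap.rTensor_comp]; rfl)
    have h₂ : x₂ = (-(Submodule.inclusion hK₂).restrictScalars R).rTensor B k := hJ.2 (by
      rw [eq_neg_of_add_eq_zero_right hsum, ← hk, ← LinearMap.comp_apply ((inc R A₂).rTensor B),
        ← LinearMap.rTensor_comp, LinearMap.comp_neg, LinearMap.rTensor_neg, LinearMap.neg_apply]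
      rfl)
    have hw : w = ι.rTensor B k := by
      have hid : w = (LinearMap.inl R A₁ A₂).rTensor B x₁ + (LinearMap.inr R A₁ A₂).rTensor B x₂ := by
        simp only [x₁, x₂, ← LinearMap.comp_apply, ← LinearMap.rTensor_comp, ← LinearMap.add_apply,
          ← LinearMap.rTensor_add]
        rw [show LinearMap.inl R A₁ A₂ ∘ₗ LinearMap.fst R A₁ A₂ + LinearMap.inr R A₁ A₂ ∘ₗ LinearMap.snd R A₁ A₂ =
          LinearMap.id from LinearMap.ext fun x => by simp, LinearMap.rTensor_id]
        rfl
      rw [hid, h₁, h₂]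
      simp only [← LinearMap.comp_apply, ← LinearMap.rTensor_comp, ← LinearMap.add_apply, ← LinearMap.rTensor_add]
      congr 2
      exact LinearMap.ext fun x => by simp [ι]
    rw [hw, ← LinearMap.comp_apply, ← LinearMap.rTensor_comp, hex.linearMap_comp_eq_zero, LinearMap.rTensor_zero,
      LinearMap.zero_apply]

include hR hP hB in
theorem good_fg : ∀ l : List P, Good W (Ideal.span {x | x ∈ l}).radical := by
  intro l
  induction hl : l.length using Nat.strong_induction_on generalizing l with
  | _ n ih =>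
    cases l with
    | nil =>
      have : Ideal.span {x : P | x ∈ ([] : List P)} = Ideal.span {(0 : P)} := by simp
      rw [this]
      exact good_singleton hR hP hB W 0
    | cons a l =>
      have hset : Ideal.span {x : P | x ∈ a :: l} = Ideal.span {a} ⊔ Ideal.span {x : P | x ∈ l} := by
        rw [← Ideal.span_insert]
        congr 1
        ext x
        simp
      rw [hset]
      refine good_sup hR hP hB W (good_singleton hR hP hB W a) (ih l.length (by simp [← hl]) l rfl) ?_
      have : Ideal.span {a} * Ideal.span {x : P | x ∈ l} = Ideal.span {x : P | x ∈ l.map (a * ·)} := by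
        rw [Ideal.span_mul_span']
        congr 1
        ext x
        simp [Set.mem_mul, eq_comm]
      rw [this]
      exact ih l.length (by simp [← hl]) (l.map (a * ·)) (by simp)

include hR hP hB in
/-- Every radical ideal of a flat perfect algebra is tor independent of a perfect algebra. -/
theorem good_of_isRadical {I : Ideal P} (hI : I.IsRadical) : Good W I := by
  classical
  let Jl : List P → Ideal P := fun l => (Ideal.span {x | x ∈ l}).radical
  have hle : ∀ l : List P, (∀ x ∈ l, x ∈ I) → Jl l ≤ I := fun l h =>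
    (Ideal.radical_mono (Ideal.span_le.2 h)).trans hI
  have hfin : ∀ (X : Type u) [AddCommGroup X] [Module R X] (z : I ⊗[R] X), ∃ (l : List P) (h : ∀ x ∈ l, x ∈ I)
      (z' : (Jl l) ⊗[R] X), ((Submodule.inclusion (hle l h)).restrictScalars R).rTensor X z' = z := by
    intro X _ _ z
    induction z using TensorProduct.induction_on with
    | zero => exact ⟨[], by simp, 0, map_zero _⟩
    | tmul a b =>
      refine ⟨[(a : P)], by simp, ⟨a, Ideal.le_radical (Ideal.subset_span (by simp))⟩ ⊗ₜ b, ?_⟩
      rfl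
    | add a b ha hb =>
      obtain ⟨l₁, h₁, a', rfl⟩ := ha
      obtain ⟨l₂, h₂, b', rfl⟩ := hb
      have hl : ∀ x ∈ l₁ ++ l₂, x ∈ I := fun x hx => (List.mem_append.1 hx).elim (h₁ x) (h₂ x)
      have i₁ : Jl l₁ ≤ Jl (l₁ ++ l₂) := Ideal.radical_mono (Ideal.span_mono fun x hx => List.mem_append_left _ hx)
      have i₂ : Jl l₂ ≤ Jl (l₁ ++ l₂) := Ideal.radical_mono (Ideal.span_mono fun x hx => List.mem_append_right _ hx)
      refine ⟨l₁ ++ l₂, hl, ((Submodule.inclusion i₁).restrictScalars R).rTensor X a' +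
        ((Submodule.inclusion i₂).restrictScalars R).rTensor X b', ?_⟩
      rw [map_add, ← LinearMap.comp_apply, ← LinearMap.rTensor_comp, ← LinearMap.comp_apply,
        ← LinearMap.rTensor_comp]
      rfl
  refine ⟨fun q z => ⟨fun hz => ?_, fun ⟨w, hw⟩ => hw ▸ d_d W _ _ _ _ w⟩, (injective_iff_map_eq_zero _).2 fun z hz => ?_⟩
  · obtain ⟨l, h, z', rfl⟩ := hfin _ z
    let i := (Submodule.inclusion (hle l h)).restrictScalars R
    have := flat_X W q
    have hinj : Function.Injective (i.rTensor (W.complex.X q)) :=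
      Module.Flat.rTensor_preserves_injective_linearMap i fun a b e => Submodule.inclusion_injective (hle l h) e
    have hz' : (W.complex.d (q + 1) q).hom.lTensor (Jl l) z' = 0 := hinj (by
      rw [map_zero, ← comm_apply]; exact hz)
    obtain ⟨w, hw⟩ := ((good_fg hR hP hB W l).1 q z').1 hz'
    exact ⟨i.rTensor _ w, by rw [comm_apply, hw]⟩
  · obtain ⟨l, h, z', rfl⟩ := hfin _ z
    have : z' = 0 := (injective_iff_map_eq_zero _).1 (good_fg hR hP hB W l).2 z' (by
      rw [← hz, ← LinearMap.comp_apply ((inc R I).rTensor B), ← LinearMap.rTensor_comp]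
      rfl)
    rw [this, map_zero]

include hR hB in
omit hP in
/-- Perfect algebras over a perfect ring are tor independent. -/
theorem exactAtSucc_of_perf {A : Type u} [CommRing A] [Algebra R A] (hA : Perf p A) (q : ℕ) :
    ExactAtSucc A W q := by
  rcases subsingleton_or_nontrivial R with hs | hs
  · haveI : Subsingleton A := Module.subsingleton R A
    haveI : Module.Flat R A := inferInstance
    exact PDLib.exactAtSucc_of_flat A W q
  obtain ⟨P, _, _, π, hP, _, hπ⟩ := exists_cover A hR hA
  let I : Ideal P := RingHom.ker π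
  have hI : I.IsRadical := by
    intro x ⟨k, hk⟩
    haveI := hA.isReduced
    exact IsReduced.eq_zero _ ⟨k, by rw [← map_pow]; exact hk⟩
  obtain ⟨h1, h2⟩ := good_of_isRadical hR hP hB W hI
  have hex : Function.Exact (inc R I) π.toLinearMap := fun x =>
    ⟨fun hx => ⟨⟨x, hx⟩, rfl⟩, fun ⟨y, hy⟩ => hy ▸ y.2⟩
  cases q with
  | zero =>
    exact exactAtSucc_right_zero (inc R I) π.toLinearMap Subtype.val_injective hex hπ W
      (PDLib.exactAtSucc_of_flat P W 0) h2
  | succ q =>
    exact exactAtSucc_right (inc R I) π.toLinearMap Subtype.val_injective hex hπ W q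
      (PDLib.exactAtSucc_of_flat P W (q + 1)) (h1 q)

end Groth.Agent.PerfTorLib
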