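import Mathlib.RingTheory.Flat.EquationalCriterion
import Mathlib.RingTheory.TensorProduct.Maps
import Mathlib.FieldTheory.PerfectClosure
import Mathlib.Algebra.CharP.Lemmas
import Mathlib.RingTheory.MvPolynomial.Basic
import Mathlib.Algebra.MvPolynomial.Nilpotent

/-! Perfect rings of characteristic `p`, and flat perfect covers. -/

set_option autoImplicit false
set_option linter.style.haveILetI false
universe u

open TensorProduct

namespace Groth.Agent.PerfTorLib

variable (p : ℕ) [Fact p.Prime]

/-- `p = 0` and the `p`-th power map is bijective. -/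
structure Perf (P : Type u) [CommRing P] : Prop where
  zero : (p : P) = 0
  bij : Function.Bijective fun x : P => x ^ p

variable {p}

theorem add_pow_p {P : Type u} [CommRing P] (h : (p : P) = 0) (x y : P) : (x + y) ^ p = x ^ p + y ^ p := by
  obtain ⟨r, hr⟩ := exists_add_pow_prime_eq (R := P) (Fact.out : p.Prime) x y
  rw [hr, h]
  ring

namespace Perf

variable {P : Type u} [CommRing P] (hP : Perf p P)
include hP

/-- The `p`-th root. -/
noncomputable def root (x : P) : P := (Equiv.ofBijective _ hP.bij).symm x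

theorem root_pow (x : P) : hP.root x ^ p = x := (Equiv.ofBijective _ hP.bij).apply_symm_apply x

theorem pow_inj {x y : P} (h : x ^ p = y ^ p) : x = y := hP.bij.1 h

theorem root_add (x y : P) : hP.root (x + y) = hP.root x + hP.root y :=
  hP.pow_inj (by simp only [add_pow_p hP.zero, hP.root_pow])

theorem root_mul (x y : P) : hP.root (x * y) = hP.root x * hP.root y :=
  hP.pow_inj (by simp only [mul_pow, hP.root_pow])

theorem add_pow_iter (x y : P) (n : ℕ) : (x + y) ^ p ^ n = x ^ p ^ n + y ^ p ^ n := by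
  induction n with
  | zero => simp
  | succ n ih => rw [pow_succ, pow_mul, pow_mul, pow_mul, ih, add_pow_p hP.zero]

theorem sum_pow_iter {ι : Type*} (s : Finset ι) (f : ι → P) (n : ℕ) :
    (∑ i ∈ s, f i) ^ p ^ n = ∑ i ∈ s, f i ^ p ^ n := by
  classical
  induction s using Finset.induction_on with
  | empty => rw [Finset.sum_empty, Finset.sum_empty, zero_pow (pow_pos (Fact.out : p.Prime).pos n).ne']
  | insert a s ha ih => rw [Finset.sum_insert ha, Finset.sum_insert ha, hP.add_pow_iter, ih]

theorem iter_inj (n : ℕ) : Function.Injective fun x : P => x ^ p ^ n := by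
  induction n with
  | zero => intro x y h; simpa using h
  | succ n ih =>
    intro x y h
    refine ih (hP.pow_inj ?_)
    simpa [pow_succ, pow_mul] using h

/-- The `p ^ n`-th root. -/
noncomputable def rootN : ℕ → P → P
  | 0, x => x
  | n + 1, x => hP.root (rootN n x)

theorem rootN_pow : ∀ (n : ℕ) (x : P), hP.rootN n x ^ p ^ n = x
  | 0, x => by simp [rootN]
  | n + 1, x => by rw [rootN, pow_succ', pow_mul, hP.root_pow, rootN_pow n x]

theorem rootN_succ_pow (n : ℕ) (x : P) : hP.rootN (n + 1) x ^ p = hP.rootN n x := hP.root_pow _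

theorem isReduced : IsReduced P := by
  refine ⟨fun x ⟨k, hk⟩ => hP.iter_inj k ?_⟩
  show x ^ p ^ k = (0 : P) ^ p ^ k
  rw [zero_pow (pow_pos (Fact.out : p.Prime).pos k).ne']
  exact pow_eq_zero_of_le (Nat.lt_pow_self (Fact.out : p.Prime).one_lt).le hk

end Perf

variable {R P B : Type u} [CommRing R] [CommRing P] [CommRing B] [Algebra R P] [Algebra R B]

theorem perf_tensor (hP : Perf p P) (hB : Perf p B) (hR : Perf p R) : Perf p (P ⊗[R] B) := by
  have h0 : (p : P ⊗[R] B) = 0 := by
    rw [← map_natCast (algebraMap R (P ⊗[R] B)), hR.zero, map_zero]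
  let ψ : P ⊗[R] B →+ P ⊗[R] B := TensorProduct.liftAddHom
    (AddMonoidHom.mk' (fun a => AddMonoidHom.mk' (fun b => hP.root a ⊗ₜ[R] hB.root b)
        fun b b' => by simp only [hB.root_add, TensorProduct.tmul_add])
      fun a a' => by ext b; simp [hP.root_add, TensorProduct.add_tmul])
    fun r a b => by
      simp only [AddMonoidHom.mk'_apply]
      rw [Algebra.smul_def, Algebra.smul_def, hP.root_mul, hB.root_mul,
        show hP.root (algebraMap R P r) = algebraMap R P (hR.root r) from
          hP.pow_inj (by rw [hP.root_pow, ← map_pow, hR.root_pow]),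
        show hB.root (algebraMap R B r) = algebraMap R B (hR.root r) from
          hB.pow_inj (by rw [hB.root_pow, ← map_pow, hR.root_pow]),
        ← Algebra.smul_def, ← Algebra.smul_def, TensorProduct.smul_tmul]
  have hψ : ∀ z : P ⊗[R] B, ψ (z ^ p) = z := by
    intro z
    induction z using TensorProduct.induction_on with
    | zero => simp [(Fact.out : p.Prime).ne_zero]
    | add a b ha hb => rw [add_pow_p h0, map_add, ha, hb]
    | tmul a b =>
      have ha : hP.root (a ^ p) = a := hP.pow_inj (hP.root_pow _)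
      have hb : hB.root (b ^ p) = b := hB.pow_inj (hB.root_pow _)
      rw [Algebra.TensorProduct.tmul_pow]
      simp [ψ, ha, hb]
  refine ⟨h0, fun a b h => by rw [← hψ a, ← hψ b]; exact congrArg ψ h, fun z => ⟨ψ z, ?_⟩⟩
  show ψ z ^ p = z
  induction z using TensorProduct.induction_on with
  | zero => simp [(Fact.out : p.Prime).ne_zero]
  | add a b ha hb => rw [map_add, add_pow_p h0, ha, hb]
  | tmul a b => simp [ψ, Algebra.TensorProduct.tmul_pow, hP.root_pow, hB.root_pow]

/-- A perfect algebra which is the perfection of a flat algebra over a perfect ring is flat. -/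
theorem flat_of_powers {Q : Type u} [CommRing Q] [Algebra R Q] [Module.Flat R Q] (hR : Perf p R) (hP : Perf p P)
    (j : Q →ₐ[R] P) (hinj : Function.Injective j) (hsurj : ∀ x : P, ∃ (n : ℕ) (y : Q), x ^ p ^ n = j y) :
    Module.Flat R P := by
  classical
  refine Module.Flat.of_forall_isTrivialRelation fun {l f x} h => ?_
  choose n y hy using fun i => hsurj (x i)
  obtain ⟨N, hN⟩ : ∃ N, ∀ i, n i ≤ N := ⟨∑ i, n i, fun i => Finset.single_le_sum (fun _ _ => Nat.zero_le _) (Finset.mem_univ i)⟩
  let z : Fin l → Q := fun i => y i ^ p ^ (N - n i)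
  have hz : ∀ i, x i ^ p ^ N = j (z i) := fun i => by
    show _ = j (y i ^ p ^ (N - n i))
    rw [map_pow, ← hy, ← pow_mul, ← pow_add, Nat.add_sub_cancel' (hN i)]
  have hrel : ∑ i, f i ^ p ^ N • z i = 0 := hinj (by
    rw [map_sum, map_zero]
    have := congrArg (· ^ p ^ N) h
    simp only [hP.sum_pow_iter, zero_pow (pow_pos (Fact.out : p.Prime).pos N).ne'] at this
    rw [← this]
    refine Finset.sum_congr rfl fun i _ => ?_
    rw [map_smul, ← hz, Algebra.smul_def, Algebra.smul_def, mul_pow, map_pow])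
  obtain ⟨k, a, w, hzw, ha⟩ := Module.Flat.iff_forall_isTrivialRelation.mp ‹Module.Flat R Q› hrel
  refine ⟨k, fun i m => hR.rootN N (a i m), fun m => hP.rootN N (j (w m)), fun i => hP.iter_inj N ?_, fun m => hR.iter_inj N ?_⟩
  · show x i ^ p ^ N = _ ^ p ^ N
    rw [hP.sum_pow_iter, hz, hzw, map_sum]
    refine Finset.sum_congr rfl fun m _ => ?_
    rw [map_smul, Algebra.smul_def, Algebra.smul_def, mul_pow, hP.rootN_pow, ← map_pow, hR.rootN_pow]
  · show (∑ i, f i * hR.rootN N (a i m)) ^ p ^ N = (0 : R) ^ p ^ N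
    rw [hR.sum_pow_iter, zero_pow (pow_pos (Fact.out : p.Prime).pos N).ne', ← ha m]
    exact Finset.sum_congr rfl fun i _ => by rw [mul_pow, hR.rootN_pow]

/-- Every perfect algebra is the quotient of a flat perfect algebra. -/
theorem exists_cover (A : Type u) [CommRing A] [Algebra R A] [Nontrivial R] (hR : Perf p R) (hA : Perf p A) :
    ∃ (P : Type u) (_ : CommRing P) (_ : Algebra R P) (π : P →ₐ[R] A),
      Perf p P ∧ Module.Flat R P ∧ Function.Surjective π := by
  haveI : CharP R p := by
    obtain ⟨q, hq⟩ := CharP.exists R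
    have hdvd : q ∣ p := (CharP.cast_eq_zero_iff R q p).1 hR.zero
    rcases (Nat.dvd_prime (Fact.out : p.Prime)).1 hdvd with rfl | rfl
    · exact absurd hq (fun h => @CharP.char_ne_one R _ _ 1 h rfl)
    · exact hq
  let Q := MvPolynomial A R
  haveI : CharP Q p := inferInstance
  haveI := hR.isReduced
  haveI : IsReduced Q := inferInstance
  let P := PerfectClosure Q p
  letI : Algebra R P := ((PerfectClosure.of Q p).comp (algebraMap R Q)).toAlgebra
  let j : Q →ₐ[R] P := AlgHom.mk' (PerfectClosure.of Q p) fun r x => by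
    rw [Algebra.smul_def, Algebra.smul_def, map_mul]
    rfl
  have hPz : (p : P) = 0 := CharP.cast_eq_zero P p
  have hP : Perf p P := ⟨hPz, PerfectRing.bijective_frobenius⟩
  let e : Q →+* A := (MvPolynomial.aeval (R := R) (fun a : A => a)).toRingHom
  have he : ∀ a : A, e (MvPolynomial.X a) = a := fun a => MvPolynomial.aeval_X _ a
  have hroot : ∀ (m : ℕ) (a : A), hA.rootN m (a ^ p ^ m) = a := fun m a => hA.iter_inj m (hA.rootN_pow m _)
  let φ : P → A := fun x => PerfectClosure.liftOn x (fun q => hA.rootN q.1 (e q.2)) (by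
    rintro _ _ ⟨m, y⟩
    refine hA.iter_inj (m + 1) ?_
    show hA.rootN m (e y) ^ p ^ (m + 1) = hA.rootN (m + 1) (e (frobenius Q p y)) ^ p ^ (m + 1)
    rw [hA.rootN_pow, pow_succ, pow_mul, hA.rootN_pow, frobenius_def, map_pow])
  have hφ : ∀ (m : ℕ) (y : Q), φ (PerfectClosure.mk Q p (m, y)) ^ p ^ m = e y := fun m y => hA.rootN_pow m _
  have hpow : ∀ x : P, ∃ (m : ℕ) (y : Q), x ^ p ^ m = PerfectClosure.of Q p y ∧ φ x ^ p ^ m = e y := by
    intro x
    induction x using PerfectClosure.induction_on with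
    | h q =>
      obtain ⟨m, y⟩ := q
      refine ⟨m, y, ?_, hφ m y⟩
      rw [← PerfectClosure.iterate_frobenius_mk Q p m y, iterate_frobenius]
  have hφof : ∀ y : Q, φ (PerfectClosure.of Q p y) = e y := fun y => rfl
  have lift : ∀ (x : P) (m M : ℕ) (y : Q), m ≤ M → x ^ p ^ m = PerfectClosure.of Q p y → φ x ^ p ^ m = e y →
      x ^ p ^ M = PerfectClosure.of Q p (y ^ p ^ (M - m)) ∧ φ x ^ p ^ M = e (y ^ p ^ (M - m)) := by
    intro x m M y hm h₁ h₂
    rw [map_pow, map_pow, ← h₁, ← h₂, ← pow_mul, ← pow_mul, ← pow_add, Nat.add_sub_cancel' hm]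
    exact ⟨rfl, rfl⟩
  have hinj : Function.Injective (PerfectClosure.of Q p) := by
    intro a b hab
    rw [PerfectClosure.of_apply, PerfectClosure.of_apply, PerfectClosure.mk_eq_iff] at hab
    obtain ⟨z, hz⟩ := hab
    exact Function.Injective.iterate (frobenius_inj Q p) _ hz
  have key : ∀ (op : ∀ {S : Type u} [CommRing S], S → S → S),
      (∀ (S : Type u) [CommRing S], (p : S) = 0 → ∀ (x y : S) (m : ℕ), op x y ^ p ^ m = op (x ^ p ^ m) (y ^ p ^ m)) →
      (∀ (S T : Type u) [CommRing S] [CommRing T] (g : S →+* T) (x y : S), g (op x y) = op (g x) (g y)) →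
      ∀ x y : P, φ (op x y) = op (φ x) (φ y) := by
    intro op hop hmap x y
    obtain ⟨m₁, y₁, h₁, h₁'⟩ := hpow x
    obtain ⟨m₂, y₂, h₂, h₂'⟩ := hpow y
    obtain ⟨m₃, y₃, h₃, h₃'⟩ := hpow (op x y)
    let M := m₁ + m₂ + m₃
    obtain ⟨a₁, b₁⟩ := lift x m₁ M y₁ (by omega) h₁ h₁'
    obtain ⟨a₂, b₂⟩ := lift y m₂ M y₂ (by omega) h₂ h₂'
    obtain ⟨a₃, b₃⟩ := lift _ m₃ M y₃ (by omega) h₃ h₃'
    refine hA.iter_inj M ?_
    show φ (op x y) ^ p ^ M = op (φ x) (φ y) ^ p ^ M
    rw [hop A hA.zero, b₁, b₂, b₃, ← hmap Q A]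
    refine congrArg e (hinj ?_)
    rw [hmap Q P, ← a₁, ← a₂, ← a₃, hop P hPz]
  let π : P →+* A :=
    { toFun := φ
      map_one' := by rw [← map_one (PerfectClosure.of Q p), hφof, map_one]
      map_zero' := by rw [← map_zero (PerfectClosure.of Q p), hφof, map_zero]
      map_mul' := key (fun {S} _ a b => a * b) (fun S _ _ a b m => mul_pow a b _) fun S T _ _ g a b => map_mul g a b
      map_add' := key (fun {S} _ a b => a + b) (fun S _ h a b m => by
        induction m with
        | zero => simp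
        | succ m ih => rw [pow_succ, pow_mul, pow_mul, pow_mul, ih, add_pow_p h]) fun S T _ _ g a b => map_add g a b }
  refine ⟨P, inferInstance, inferInstance, AlgHom.mk' π fun r x => ?_, hP,
    flat_of_powers hR hP j hinj (fun x => let ⟨m, y, h, _⟩ := hpow x; ⟨m, y, h⟩),
    fun a => ⟨PerfectClosure.of Q p (MvPolynomial.X a), (hφof _).trans (he a)⟩⟩
  rw [Algebra.smul_def, Algebra.smul_def, map_mul]
  exact congrArg (· * π x) ((hφof _).trans (MvPolynomial.aeval_C _ r))

end Groth.Agent.PerfTorLib
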